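import Mathlib
import Cfsg.Agent.Lib.Helper6.ChevPerfect
import Cfsg.Prelude.Def_ChevE6

/-!
# Perfectness certificates for E6 (helper6)

Generated certificates and kernel checks.
-/

set_option autoImplicit false

namespace Cfsg.Agent.Lib.Helper6.ChevPerf

open Cfsg.Lie Cfsg.Agent.Lib.Helper6.ChevPerfect

/-- commutator certificates, type E6 -/
def certE6 : List (ℕ × ℕ × ℤ) :=
  [(1, 25, -1), (0, 46, -1), (0, 47, 1), (0, 48, -1), (0, 49, 1), (0, 50, -1), (0, 51, 1), (0, 52, -1), (0, 53, -1), (0, 54, 1), (0, 55, -1), (1, 53, -1), (1, 54, 1), (1, 55, -1), (2, 55, -1), (5, 55, -1), (0, 61, 1), (0, 62, -1), (0, 63, 1), (0, 64, 1), (0, 65, -1), (0, 66, 1), (0, 67, -1), (0, 68, 1), (0, 69, -1), (0, 70, 1), (1, 64, 1), (1, 65, -1), (1, 66, 1), (2, 66, 1), (1, 67, 1), (1, 68, -1), (1, 69, 1), (2, 67, -1), (2, 68, 1), (3, 67, 1), (4, 68, 1), (3, 69, 1), (4, 69, -1), (2, 70, 1), (3, 70, -1), (4, 70, 1), (5, 69, 1), (5, 70, 1), (6, 70, -1), (7, 70, 1), (1, 71, 1),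 (2, 71, -1), (3, 71, 1), (4, 71, -1), (5, 71, 1), (6, 71, -1), (7, 71, 1), (8, 71, 1), (9, 71, -1), (10, 71, 1), (16, 66, -1), (16, 69, -1), (16, 70, -1), (17, 70, 1), (18, 70, -1), (16, 71, -1), (17, 71, 1), (18, 71, -1), (19, 71, -1), (20, 71, 1), (21, 71, -1), (22, 71, 1), (23, 71, -1), (24, 71, 1), (25, 71, -1), (46, 70, -1)]

set_option maxHeartbeats 0 in
set_option maxRecDepth 100000 in
theorem ccE6_0 : certCheckL chevE6 1 certE6 (List.range' 0 12) := by
  decide +kernel

set_option maxHeartbeats 0 in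
set_option maxRecDepth 100000 in
theorem ccE6_1 : certCheckL chevE6 1 certE6 (List.range' 12 12) := by
  decide +kernel

set_option maxHeartbeats 0 in
set_option maxRecDepth 100000 in
theorem ccE6_2 : certCheckL chevE6 1 certE6 (List.range' 24 12) := by
  decide +kernel

set_option maxHeartbeats 0 in
set_option maxRecDepth 100000 in
theorem ccE6_3 : certCheckL chevE6 1 certE6 (List.range' 36 12) := by
  decide +kernel

set_option maxHeartbeats 0 in
set_option maxRecDepth 100000 in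
theorem ccE6_4 : certCheckL chevE6 1 certE6 (List.range' 48 12) := by
  decide +kernel

set_option maxHeartbeats 0 in
set_option maxRecDepth 100000 in
theorem ccE6_5 : certCheckL chevE6 1 certE6 (List.range' 60 12) := by
  decide +kernel

theorem ccE6 (s : ℕ) (h1 : 0 ≤ s) (h2 : s < 72) : certCheck chevE6 1 certE6 s := by
  by_cases h12 : s < 12
  · exact ccE6_0 s (List.mem_range'_1.mpr ⟨by omega, by omega⟩)
  by_cases h24 : s < 24
  · exact ccE6_1 s (List.mem_range'_1.mpr ⟨by omega, by omega⟩)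
  by_cases h36 : s < 36
  · exact ccE6_2 s (List.mem_range'_1.mpr ⟨by omega, by omega⟩)
  by_cases h48 : s < 48
  · exact ccE6_3 s (List.mem_range'_1.mpr ⟨by omega, by omega⟩)
  by_cases h60 : s < 60
  · exact ccE6_4 s (List.mem_range'_1.mpr ⟨by omega, by omega⟩)
  exact ccE6_5 s (List.mem_range'_1.mpr ⟨by omega, by omega⟩)


end Cfsg.Agent.Lib.Helper6.ChevPerf
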