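import Mathlib
import Cfsg.Agent.Lib.Helper6.ChevPerfect
import Cfsg.Prelude.Def_ChevE7

/-!
# Perfectness certificates for E7 (helper6)

Generated certificates and kernel checks.
-/

set_option autoImplicit false

namespace Cfsg.Agent.Lib.Helper6.ChevPerf

open Cfsg.Lie Cfsg.Agent.Lib.Helper6.ChevPerfect

/-- commutator certificates, type E7 -/
def certE7 : List (ℕ × ℕ × ℤ) :=
  [(1, 32, -1), (0, 93, -1), (0, 94, 1), (0, 95, -1), (0, 96, 1), (0, 97, -1), (0, 98, 1), (0, 99, 1), (0, 100, -1), (0, 101, 1), (0, 102, -1), (0, 103, 1), (0, 104, -1), (0, 105, 1), (0, 106, 1), (0, 107, -1), (0, 108, 1), (0, 109, -1), (0, 110, 1), (0, 111, -1), (0, 112, -1), (0, 113, 1), (0, 114, -1), (0, 115, 1), (0, 116, -1), (0, 117, 1), (0, 118, -1), (0, 119, -1), (0, 120, 1), (0, 121, -1), (0, 122, 1), (0, 123, -1), (0, 124, 1), (1, 109, 1), (1, 110, -1), (1, 111, 1), (1, 112, 1), (1, 113, -1), (1, 114, 1), (1, 115, -1), (1, 116, 1), (1, 117, -1), (1, 118, 1), (2, 115, -1), (2, 116, 1), (2, 117, -1), (2,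 118, 1), (3, 118, 1), (1, 119, 1), (1, 120, -1), (1, 121, 1), (1, 122, -1), (1, 123, 1), (2, 119, -1), (2, 120, 1), (2, 121, -1), (2, 122, 1), (3, 119, 1), (3, 120, -1), (3, 121, 1), (4, 119, -1), (4, 120, 1), (5, 119, 1), (6, 120, 1), (5, 121, 1), (6, 121, -1), (4, 122, 1), (5, 122, -1), (6, 122, 1), (3, 123, 1), (4, 123, -1), (5, 123, 1), (6, 123, -1), (2, 124, 1), (3, 124, -1), (4, 124, 1), (5, 124, -1), (6, 124, 1), (7, 122, 1), (7, 123, 1), (8, 123, -1), (9, 123, 1), (10, 123, -1), (7, 124, 1), (8, 124, -1), (9, 124, 1), (10, 124, -1), (11, 124, 1), (12, 124, -1), (13, 124, 1), (14, 124, 1), (15, 124, -1), (16, 124, 1), (1, 125, 1), (2, 125, -1), (3, 125, 1), (4, 125, -1), (5, 125, 1), (6, 125, -1), (7, 125, -1), (8, 125, 1), (9, 125, -1), (10, 125, 1), (11, 125, -1), (12, 125, 1), (13, 125, -1), (14, 125, -1), (15, 125, 1), (16, 125, -1), (17, 125, 1), (18, 125, -1), (19, 125, 1), (20, 125, 1), (21, 125, -1), (22, 125, 1), (23, 125, -1), (24, 125, 1), (25, 125, -1), (26, 125, 1),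 (27, 125, 1), (28, 125, -1), (29, 125, 1), (30, 125, -1), (31, 125, 1), (32, 125, -1), (93, 124, -1)]

set_option maxHeartbeats 0 in
set_option maxRecDepth 100000 in
theorem ccE7_0 : certCheckL chevE7 1 certE7 (List.range' 0 9) := by
  decide +kernel

set_option maxHeartbeats 0 in
set_option maxRecDepth 100000 in
theorem ccE7_1 : certCheckL chevE7 1 certE7 (List.range' 9 9) := by
  decide +kernel

set_option maxHeartbeats 0 in
set_option maxRecDepth 100000 in
theorem ccE7_2 : certCheckL chevE7 1 certE7 (List.range' 18 9) := by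
  decide +kernel

set_option maxHeartbeats 0 in
set_option maxRecDepth 100000 in
theorem ccE7_3 : certCheckL chevE7 1 certE7 (List.range' 27 9) := by
  decide +kernel

set_option maxHeartbeats 0 in
set_option maxRecDepth 100000 in
theorem ccE7_4 : certCheckL chevE7 1 certE7 (List.range' 36 9) := by
  decide +kernel

set_option maxHeartbeats 0 in
set_option maxRecDepth 100000 in
theorem ccE7_5 : certCheckL chevE7 1 certE7 (List.range' 45 9) := by
  decide +kernel

set_option maxHeartbeats 0 in
set_option maxRecDepth 100000 in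
theorem ccE7_6 : certCheckL chevE7 1 certE7 (List.range' 54 9) := by
  decide +kernel

set_option maxHeartbeats 0 in
set_option maxRecDepth 100000 in
theorem ccE7_7 : certCheckL chevE7 1 certE7 (List.range' 63 9) := by
  decide +kernel

set_option maxHeartbeats 0 in
set_option maxRecDepth 100000 in
theorem ccE7_8 : certCheckL chevE7 1 certE7 (List.range' 72 9) := by
  decide +kernel

set_option maxHeartbeats 0 in
set_option maxRecDepth 100000 in
theorem ccE7_9 : certCheckL chevE7 1 certE7 (List.range' 81 9) := by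
  decide +kernel

set_option maxHeartbeats 0 in
set_option maxRecDepth 100000 in
theorem ccE7_10 : certCheckL chevE7 1 certE7 (List.range' 90 9) := by
  decide +kernel

set_option maxHeartbeats 0 in
set_option maxRecDepth 100000 in
theorem ccE7_11 : certCheckL chevE7 1 certE7 (List.range' 99 9) := by
  decide +kernel

set_option maxHeartbeats 0 in
set_option maxRecDepth 100000 in
theorem ccE7_12 : certCheckL chevE7 1 certE7 (List.range' 108 9) := by
  decide +kernel

set_option maxHeartbeats 0 in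
set_option maxRecDepth 100000 in
theorem ccE7_13 : certCheckL chevE7 1 certE7 (List.range' 117 9) := by
  decide +kernel

theorem ccE7 (s : ℕ) (h1 : 0 ≤ s) (h2 : s < 126) : certCheck chevE7 1 certE7 s := by
  by_cases h9 : s < 9
  · exact ccE7_0 s (List.mem_range'_1.mpr ⟨by omega, by omega⟩)
  by_cases h18 : s < 18
  · exact ccE7_1 s (List.mem_range'_1.mpr ⟨by omega, by omega⟩)
  by_cases h27 : s < 27
  · exact ccE7_2 s (List.mem_range'_1.mpr ⟨by omega, by omega⟩)
  by_cases h36 : s < 36
  · exact ccE7_3 s (List.mem_range'_1.mpr ⟨by omega, by omega⟩)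
  by_cases h45 : s < 45
  · exact ccE7_4 s (List.mem_range'_1.mpr ⟨by omega, by omega⟩)
  by_cases h54 : s < 54
  · exact ccE7_5 s (List.mem_range'_1.mpr ⟨by omega, by omega⟩)
  by_cases h63 : s < 63
  · exact ccE7_6 s (List.mem_range'_1.mpr ⟨by omega, by omega⟩)
  by_cases h72 : s < 72
  · exact ccE7_7 s (List.mem_range'_1.mpr ⟨by omega, by omega⟩)
  by_cases h81 : s < 81
  · exact ccE7_8 s (List.mem_range'_1.mpr ⟨by omega, by omega⟩)
  by_cases h90 : s < 90
  · exact ccE7_9 s (List.mem_range'_1.mpr ⟨by omega, by omega⟩)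
  by_cases h99 : s < 99
  · exact ccE7_10 s (List.mem_range'_1.mpr ⟨by omega, by omega⟩)
  by_cases h108 : s < 108
  · exact ccE7_11 s (List.mem_range'_1.mpr ⟨by omega, by omega⟩)
  by_cases h117 : s < 117
  · exact ccE7_12 s (List.mem_range'_1.mpr ⟨by omega, by omega⟩)
  exact ccE7_13 s (List.mem_range'_1.mpr ⟨by omega, by omega⟩)


end Cfsg.Agent.Lib.Helper6.ChevPerf
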