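import Mathlib
import Cfsg.Agent.Lib.Helper6.ChevPerfect
import Cfsg.Prelude.Def_ChevE8

/-!
# Perfectness certificates for E8: the table (helper6)

Generated certificates and kernel checks.
-/

set_option autoImplicit false

namespace Cfsg.Agent.Lib.Helper6.ChevPerf

open Cfsg.Lie Cfsg.Agent.Lib.Helper6.ChevPerfect

/-- commutator certificates, type E8 -/
def certE8 : List (ℕ × ℕ × ℤ) :=
  [(1, 119, -1), (0, 120, -1), (0, 122, -1), (0, 125, -1), (0, 129, -1), (0, 134, -1), (0, 140, -1), (0, 146, -1), (0, 151, 1), (0, 155, -1), (0, 158, 1), (0, 160, -1), (0, 161, 1), (1, 161, 1), (0, 168, -1), (0, 173, 1), (0, 177, -1), (0, 180, 1), (0, 182, -1), (0, 183, 1), (1, 183, 1), (0, 187, 1), (0, 190, -1), (0, 192, 1), (0, 193, -1), (1, 193, -1), (0, 196, 1), (0, 198, -1), (0, 199, 1), (1, 199, 1), (0, 201, 1), (0, 202, -1), (1, 202, -1), (0, 203, 1), (1, 203, 1), (2, 203, 1), (0, 206, -1), (0, 208, 1), (0, 209, -1), (1, 209, -1),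 (0, 211, -1), (0, 212, 1), (1, 212, 1), (0, 213, -1), (1, 213, -1), (2, 213, -1), (0, 215, 1), (0, 216, -1), (1, 216, -1), (0, 217, 1), (1, 217, 1), (2, 217, 1), (0, 218, -1), (1, 218, -1), (2, 218, -1), (3, 218, -1), (0, 220, -1), (0, 221, 1), (1, 221, 1), (0, 222, -1), (1, 222, -1), (2, 222, -1), (0, 223, 1), (1, 223, 1), (2, 223, 1), (3, 223, 1), (0, 224, -1), (1, 224, -1), (2, 224, -1), (3, 224, -1), (4, 224, -1), (0, 225, 1), (1, 225, 1), (2, 225, 1), (3, 225, 1), (4, 225, 1), (5, 225, 1), (6, 225, 1), (0, 227, -1), (0, 228, 1), (1, 228, 1), (0, 229, -1), (1, 229, -1), (2, 229, -1), (0, 230, 1), (1, 230, 1), (2, 230, 1), (3, 230, 1), (0, 231, -1), (1, 231, -1), (2, 231, -1), (3, 231, -1), (4, 231, -1), (0, 232, 1), (1, 232, 1), (2, 232, 1), (3, 232, 1), (4, 232, 1), (5, 232, 1), (0, 233, 1), (1, 233, 1), (2, 233, 1), (3, 233, 1), (4, 233, 1), (5, 233, 1), (0, 234, 1), (1, 234, 1), (2, 234, 1), (3, 234, 1), (4, 234,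 1), (0, 235, 1), (1, 235, 1), (2, 235, 1), (3, 235, 1), (0, 236, 1), (1, 236, 1), (2, 236, 1), (0, 237, 1), (1, 237, 1), (0, 238, 1), (1, 239, 1), (2, 238, 1), (2, 239, 1), (3, 237, 1), (3, 238, 1), (3, 239, 1), (4, 236, 1), (4, 237, 1), (4, 238, 1), (4, 239, 1), (5, 235, 1), (5, 236, 1), (5, 237, 1), (5, 238, 1), (5, 239, 1), (6, 234, 1), (6, 235, 1), (6, 236, 1), (6, 237, 1), (6, 238, 1), (6, 239, 1), (7, 234, 1), (7, 235, 1), (7, 236, 1), (7, 237, 1), (7, 238, 1), (7, 239, 1), (8, 235, -1), (8, 236, -1), (8, 237, -1), (8, 238, -1), (8, 239, -1), (9, 236, 1), (9, 237, 1), (9, 238, 1), (9, 239, 1), (10, 237, -1), (10, 238, -1), (10, 239, -1), (11, 238, 1), (11, 239, 1), (12, 239, -1), (14, 233, 1), (14, 234, 1), (14, 235, 1), (14, 236, 1), (14, 237, 1), (14, 238, 1), (14, 239, 1), (15, 235, -1), (15, 236, -1), (15, 237, -1), (15, 238, -1), (15, 239, -1), (16, 236, 1), (16, 237, 1), (16, 238, 1), (16, 239, 1), (17, 237,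 -1), (17, 238, -1), (17, 239, -1), (18, 238, 1), (18, 239, 1), (19, 239, -1), (21, 236, -1), (21, 237, -1), (21, 238, -1), (21, 239, -1), (22, 237, 1), (22, 238, 1), (22, 239, 1), (23, 238, -1), (23, 239, -1), (24, 239, 1), (26, 237, -1), (26, 238, -1), (26, 239, -1), (27, 238, 1), (27, 239, 1), (28, 239, -1), (30, 238, -1), (30, 239, -1), (31, 239, 1), (33, 239, -1), (36, 237, 1), (36, 238, 1), (36, 239, 1), (37, 238, -1), (37, 239, -1), (38, 239, 1), (40, 238, 1), (40, 239, 1), (41, 239, -1), (43, 239, 1), (46, 238, -1), (46, 239, -1), (47, 239, 1), (49, 239, -1), (52, 239, 1), (56, 238, 1), (56, 239, 1), (57, 239, -1), (59, 239, 1), (62, 239, -1), (66, 239, 1), (71, 239, -1), (78, 238, 1), (78, 239, 1), (79, 239, -1), (81, 239, 1), (84, 239, -1), (88, 239, 1), (93, 239, -1), (99, 239, -1), (105, 239, -1), (110, 239, -1), (114, 239, -1), (117, 239, -1), (119, 239, -1), (120, 238, -1)]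


end Cfsg.Agent.Lib.Helper6.ChevPerf
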