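import Mathlib
import Cfsg.Agent.Lib.Helper6.ChevPerfect
import Cfsg.Agent.Lib.Helper6.ChevPerf.E8Tab

/-!
# Perfectness certificates for E8, part a (helper6)

Generated certificates and kernel checks.
-/

set_option autoImplicit false

namespace Cfsg.Agent.Lib.Helper6.ChevPerf

open Cfsg.Lie Cfsg.Agent.Lib.Helper6.ChevPerfect

set_option maxHeartbeats 0 in
set_option maxRecDepth 100000 in
theorem ccE8a_0 : certCheckL chevE8 1 certE8 (List.range' 0 6) := by
  decide +kernel

set_option maxHeartbeats 0 in
set_option maxRecDepth 100000 in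
theorem ccE8a_1 : certCheckL chevE8 1 certE8 (List.range' 6 6) := by
  decide +kernel

set_option maxHeartbeats 0 in
set_option maxRecDepth 100000 in
theorem ccE8a_2 : certCheckL chevE8 1 certE8 (List.range' 12 6) := by
  decide +kernel

set_option maxHeartbeats 0 in
set_option maxRecDepth 100000 in
theorem ccE8a_3 : certCheckL chevE8 1 certE8 (List.range' 18 6) := by
  decide +kernel

set_option maxHeartbeats 0 in
set_option maxRecDepth 100000 in
theorem ccE8a_4 : certCheckL chevE8 1 certE8 (List.range' 24 6) := by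
  decide +kernel

set_option maxHeartbeats 0 in
set_option maxRecDepth 100000 in
theorem ccE8a_5 : certCheckL chevE8 1 certE8 (List.range' 30 6) := by
  decide +kernel

set_option maxHeartbeats 0 in
set_option maxRecDepth 100000 in
theorem ccE8a_6 : certCheckL chevE8 1 certE8 (List.range' 36 6) := by
  decide +kernel

set_option maxHeartbeats 0 in
set_option maxRecDepth 100000 in
theorem ccE8a_7 : certCheckL chevE8 1 certE8 (List.range' 42 6) := by
  decide +kernel

set_option maxHeartbeats 0 in
set_option maxRecDepth 100000 in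
theorem ccE8a_8 : certCheckL chevE8 1 certE8 (List.range' 48 6) := by
  decide +kernel

set_option maxHeartbeats 0 in
set_option maxRecDepth 100000 in
theorem ccE8a_9 : certCheckL chevE8 1 certE8 (List.range' 54 6) := by
  decide +kernel

theorem ccE8a (s : ℕ) (h1 : 0 ≤ s) (h2 : s < 60) : certCheck chevE8 1 certE8 s := by
  by_cases h6 : s < 6
  · exact ccE8a_0 s (List.mem_range'_1.mpr ⟨by omega, by omega⟩)
  by_cases h12 : s < 12
  · exact ccE8a_1 s (List.mem_range'_1.mpr ⟨by omega, by omega⟩)
  by_cases h18 : s < 18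
  · exact ccE8a_2 s (List.mem_range'_1.mpr ⟨by omega, by omega⟩)
  by_cases h24 : s < 24
  · exact ccE8a_3 s (List.mem_range'_1.mpr ⟨by omega, by omega⟩)
  by_cases h30 : s < 30
  · exact ccE8a_4 s (List.mem_range'_1.mpr ⟨by omega, by omega⟩)
  by_cases h36 : s < 36
  · exact ccE8a_5 s (List.mem_range'_1.mpr ⟨by omega, by omega⟩)
  by_cases h42 : s < 42
  · exact ccE8a_6 s (List.mem_range'_1.mpr ⟨by omega, by omega⟩)
  by_cases h48 : s < 48
  · exact ccE8a_7 s (List.mem_range'_1.mpr ⟨by omega, by omega⟩)
  by_cases h54 : s < 54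
  · exact ccE8a_8 s (List.mem_range'_1.mpr ⟨by omega, by omega⟩)
  exact ccE8a_9 s (List.mem_range'_1.mpr ⟨by omega, by omega⟩)


end Cfsg.Agent.Lib.Helper6.ChevPerf
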