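import Mathlib
import Cfsg.Agent.Lib.Helper6.ChevPerfect
import Cfsg.Agent.Lib.Helper6.ChevPerf.E8Tab

/-!
# Perfectness certificates for E8, part b (helper6)

Generated certificates and kernel checks.
-/

set_option autoImplicit false

namespace Cfsg.Agent.Lib.Helper6.ChevPerf

open Cfsg.Lie Cfsg.Agent.Lib.Helper6.ChevPerfect

set_option maxHeartbeats 0 in
set_option maxRecDepth 100000 in
theorem ccE8b_0 : certCheckL chevE8 1 certE8 (List.range' 60 6) := by
  decide +kernel

set_option maxHeartbeats 0 in
set_option maxRecDepth 100000 in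
theorem ccE8b_1 : certCheckL chevE8 1 certE8 (List.range' 66 6) := by
  decide +kernel

set_option maxHeartbeats 0 in
set_option maxRecDepth 100000 in
theorem ccE8b_2 : certCheckL chevE8 1 certE8 (List.range' 72 6) := by
  decide +kernel

set_option maxHeartbeats 0 in
set_option maxRecDepth 100000 in
theorem ccE8b_3 : certCheckL chevE8 1 certE8 (List.range' 78 6) := by
  decide +kernel

set_option maxHeartbeats 0 in
set_option maxRecDepth 100000 in
theorem ccE8b_4 : certCheckL chevE8 1 certE8 (List.range' 84 6) := by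
  decide +kernel

set_option maxHeartbeats 0 in
set_option maxRecDepth 100000 in
theorem ccE8b_5 : certCheckL chevE8 1 certE8 (List.range' 90 6) := by
  decide +kernel

set_option maxHeartbeats 0 in
set_option maxRecDepth 100000 in
theorem ccE8b_6 : certCheckL chevE8 1 certE8 (List.range' 96 6) := by
  decide +kernel

set_option maxHeartbeats 0 in
set_option maxRecDepth 100000 in
theorem ccE8b_7 : certCheckL chevE8 1 certE8 (List.range' 102 6) := by
  decide +kernel

set_option maxHeartbeats 0 in
set_option maxRecDepth 100000 in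
theorem ccE8b_8 : certCheckL chevE8 1 certE8 (List.range' 108 6) := by
  decide +kernel

set_option maxHeartbeats 0 in
set_option maxRecDepth 100000 in
theorem ccE8b_9 : certCheckL chevE8 1 certE8 (List.range' 114 6) := by
  decide +kernel

theorem ccE8b (s : ℕ) (h1 : 60 ≤ s) (h2 : s < 120) : certCheck chevE8 1 certE8 s := by
  by_cases h66 : s < 66
  · exact ccE8b_0 s (List.mem_range'_1.mpr ⟨by omega, by omega⟩)
  by_cases h72 : s < 72
  · exact ccE8b_1 s (List.mem_range'_1.mpr ⟨by omega, by omega⟩)
  by_cases h78 : s < 78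
  · exact ccE8b_2 s (List.mem_range'_1.mpr ⟨by omega, by omega⟩)
  by_cases h84 : s < 84
  · exact ccE8b_3 s (List.mem_range'_1.mpr ⟨by omega, by omega⟩)
  by_cases h90 : s < 90
  · exact ccE8b_4 s (List.mem_range'_1.mpr ⟨by omega, by omega⟩)
  by_cases h96 : s < 96
  · exact ccE8b_5 s (List.mem_range'_1.mpr ⟨by omega, by omega⟩)
  by_cases h102 : s < 102
  · exact ccE8b_6 s (List.mem_range'_1.mpr ⟨by omega, by omega⟩)
  by_cases h108 : s < 108
  · exact ccE8b_7 s (List.mem_range'_1.mpr ⟨by omega, by omega⟩)
  by_cases h114 : s < 114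
  · exact ccE8b_8 s (List.mem_range'_1.mpr ⟨by omega, by omega⟩)
  exact ccE8b_9 s (List.mem_range'_1.mpr ⟨by omega, by omega⟩)


end Cfsg.Agent.Lib.Helper6.ChevPerf
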