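import Mathlib
import Cfsg.Agent.Lib.Helper6.ChevPerfect
import Cfsg.Agent.Lib.Helper6.ChevPerf.E8Tab

/-!
# Perfectness certificates for E8, part c (helper6)

Generated certificates and kernel checks.
-/

set_option autoImplicit false

namespace Cfsg.Agent.Lib.Helper6.ChevPerf

open Cfsg.Lie Cfsg.Agent.Lib.Helper6.ChevPerfect

set_option maxHeartbeats 0 in
set_option maxRecDepth 100000 in
theorem ccE8c_0 : certCheckL chevE8 1 certE8 (List.range' 120 6) := by
  decide +kernel

set_option maxHeartbeats 0 in
set_option maxRecDepth 100000 in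
theorem ccE8c_1 : certCheckL chevE8 1 certE8 (List.range' 126 6) := by
  decide +kernel

set_option maxHeartbeats 0 in
set_option maxRecDepth 100000 in
theorem ccE8c_2 : certCheckL chevE8 1 certE8 (List.range' 132 6) := by
  decide +kernel

set_option maxHeartbeats 0 in
set_option maxRecDepth 100000 in
theorem ccE8c_3 : certCheckL chevE8 1 certE8 (List.range' 138 6) := by
  decide +kernel

set_option maxHeartbeats 0 in
set_option maxRecDepth 100000 in
theorem ccE8c_4 : certCheckL chevE8 1 certE8 (List.range' 144 6) := by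
  decide +kernel

set_option maxHeartbeats 0 in
set_option maxRecDepth 100000 in
theorem ccE8c_5 : certCheckL chevE8 1 certE8 (List.range' 150 6) := by
  decide +kernel

set_option maxHeartbeats 0 in
set_option maxRecDepth 100000 in
theorem ccE8c_6 : certCheckL chevE8 1 certE8 (List.range' 156 6) := by
  decide +kernel

set_option maxHeartbeats 0 in
set_option maxRecDepth 100000 in
theorem ccE8c_7 : certCheckL chevE8 1 certE8 (List.range' 162 6) := by
  decide +kernel

set_option maxHeartbeats 0 in
set_option maxRecDepth 100000 in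
theorem ccE8c_8 : certCheckL chevE8 1 certE8 (List.range' 168 6) := by
  decide +kernel

set_option maxHeartbeats 0 in
set_option maxRecDepth 100000 in
theorem ccE8c_9 : certCheckL chevE8 1 certE8 (List.range' 174 6) := by
  decide +kernel

theorem ccE8c (s : ℕ) (h1 : 120 ≤ s) (h2 : s < 180) : certCheck chevE8 1 certE8 s := by
  by_cases h126 : s < 126
  · exact ccE8c_0 s (List.mem_range'_1.mpr ⟨by omega, by omega⟩)
  by_cases h132 : s < 132
  · exact ccE8c_1 s (List.mem_range'_1.mpr ⟨by omega, by omega⟩)
  by_cases h138 : s < 138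
  · exact ccE8c_2 s (List.mem_range'_1.mpr ⟨by omega, by omega⟩)
  by_cases h144 : s < 144
  · exact ccE8c_3 s (List.mem_range'_1.mpr ⟨by omega, by omega⟩)
  by_cases h150 : s < 150
  · exact ccE8c_4 s (List.mem_range'_1.mpr ⟨by omega, by omega⟩)
  by_cases h156 : s < 156
  · exact ccE8c_5 s (List.mem_range'_1.mpr ⟨by omega, by omega⟩)
  by_cases h162 : s < 162
  · exact ccE8c_6 s (List.mem_range'_1.mpr ⟨by omega, by omega⟩)
  by_cases h168 : s < 168
  · exact ccE8c_7 s (List.mem_range'_1.mpr ⟨by omega, by omega⟩)
  by_cases h174 : s < 174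
  · exact ccE8c_8 s (List.mem_range'_1.mpr ⟨by omega, by omega⟩)
  exact ccE8c_9 s (List.mem_range'_1.mpr ⟨by omega, by omega⟩)


end Cfsg.Agent.Lib.Helper6.ChevPerf
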