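import Mathlib
import Cfsg.Agent.Lib.Helper6.ChevPerfect
import Cfsg.Agent.Lib.Helper6.ChevPerf.E8Tab

/-!
# Perfectness certificates for E8, part d (helper6)

Generated certificates and kernel checks.
-/

set_option autoImplicit false

namespace Cfsg.Agent.Lib.Helper6.ChevPerf

open Cfsg.Lie Cfsg.Agent.Lib.Helper6.ChevPerfect

set_option maxHeartbeats 0 in
set_option maxRecDepth 100000 in
theorem ccE8d_0 : certCheckL chevE8 1 certE8 (List.range' 180 6) := by
  decide +kernel

set_option maxHeartbeats 0 in
set_option maxRecDepth 100000 in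
theorem ccE8d_1 : certCheckL chevE8 1 certE8 (List.range' 186 6) := by
  decide +kernel

set_option maxHeartbeats 0 in
set_option maxRecDepth 100000 in
theorem ccE8d_2 : certCheckL chevE8 1 certE8 (List.range' 192 6) := by
  decide +kernel

set_option maxHeartbeats 0 in
set_option maxRecDepth 100000 in
theorem ccE8d_3 : certCheckL chevE8 1 certE8 (List.range' 198 6) := by
  decide +kernel

set_option maxHeartbeats 0 in
set_option maxRecDepth 100000 in
theorem ccE8d_4 : certCheckL chevE8 1 certE8 (List.range' 204 6) := by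
  decide +kernel

set_option maxHeartbeats 0 in
set_option maxRecDepth 100000 in
theorem ccE8d_5 : certCheckL chevE8 1 certE8 (List.range' 210 6) := by
  decide +kernel

set_option maxHeartbeats 0 in
set_option maxRecDepth 100000 in
theorem ccE8d_6 : certCheckL chevE8 1 certE8 (List.range' 216 6) := by
  decide +kernel

set_option maxHeartbeats 0 in
set_option maxRecDepth 100000 in
theorem ccE8d_7 : certCheckL chevE8 1 certE8 (List.range' 222 6) := by
  decide +kernel

set_option maxHeartbeats 0 in
set_option maxRecDepth 100000 in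
theorem ccE8d_8 : certCheckL chevE8 1 certE8 (List.range' 228 6) := by
  decide +kernel

set_option maxHeartbeats 0 in
set_option maxRecDepth 100000 in
theorem ccE8d_9 : certCheckL chevE8 1 certE8 (List.range' 234 6) := by
  decide +kernel

theorem ccE8d (s : ℕ) (h1 : 180 ≤ s) (h2 : s < 240) : certCheck chevE8 1 certE8 s := by
  by_cases h186 : s < 186
  · exact ccE8d_0 s (List.mem_range'_1.mpr ⟨by omega, by omega⟩)
  by_cases h192 : s < 192
  · exact ccE8d_1 s (List.mem_range'_1.mpr ⟨by omega, by omega⟩)
  by_cases h198 : s < 198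
  · exact ccE8d_2 s (List.mem_range'_1.mpr ⟨by omega, by omega⟩)
  by_cases h204 : s < 204
  · exact ccE8d_3 s (List.mem_range'_1.mpr ⟨by omega, by omega⟩)
  by_cases h210 : s < 210
  · exact ccE8d_4 s (List.mem_range'_1.mpr ⟨by omega, by omega⟩)
  by_cases h216 : s < 216
  · exact ccE8d_5 s (List.mem_range'_1.mpr ⟨by omega, by omega⟩)
  by_cases h222 : s < 222
  · exact ccE8d_6 s (List.mem_range'_1.mpr ⟨by omega, by omega⟩)
  by_cases h228 : s < 228
  · exact ccE8d_7 s (List.mem_range'_1.mpr ⟨by omega, by omega⟩)
  by_cases h234 : s < 234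
  · exact ccE8d_8 s (List.mem_range'_1.mpr ⟨by omega, by omega⟩)
  exact ccE8d_9 s (List.mem_range'_1.mpr ⟨by omega, by omega⟩)


end Cfsg.Agent.Lib.Helper6.ChevPerf
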