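import Mathlib
import Cfsg.Agent.Lib.Helper6.ChevPerfect
import Cfsg.Prelude.Def_ChevG2
import Cfsg.Prelude.Def_ChevB2
import Cfsg.Prelude.Def_ChevD4
import Cfsg.Prelude.Def_ChevF4

/-!
# Perfectness certificates for the small types (helper6)

Generated certificates and kernel checks.
-/

set_option autoImplicit false

namespace Cfsg.Agent.Lib.Helper6.ChevPerf

open Cfsg.Lie Cfsg.Agent.Lib.Helper6.ChevPerfect

set_option maxHeartbeats 0 in
set_option maxRecDepth 100000 in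
theorem classG2 : ∀ s ∈ List.range 12, cartanHas chevG2 1 s ∨ (cartanHas chevG2 2 s ∧ cartanHas chevG2 3 s) := by
  decide +kernel

/-- commutator certificates with coefficient 2 for the long roots, type B2 -/
def certB2 : List (ℕ × ℕ × ℤ) :=
  [(1, 2, -2), (0, 0, 0), (0, 0, 0), (1, 5, 2), (2, 6, 2), (0, 0, 0), (0, 0, 0), (5, 6, -2)]

set_option maxHeartbeats 0 in
set_option maxRecDepth 100000 in
theorem classB2 : ∀ s ∈ List.range 8, cartanHas chevB2 1 s ∨ (cartanHas chevB2 2 s ∧ certCheck chevB2 2 certB2 s) := by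
  decide +kernel

/-- commutator certificates, type D4 -/
def certD4 : List (ℕ × ℕ × ℤ) :=
  [(1, 9, -1), (0, 14, -1), (0, 15, 1), (0, 16, 1), (0, 17, -1), (1, 17, -1), (0, 19, 1), (0, 20, -1), (0, 21, -1), (0, 22, 1), (1, 20, 1), (1, 21, 1), (2, 22, 1), (3, 22, 1), (1, 23, 1), (2, 23, -1), (3, 23, -1), (4, 23, 1), (6, 22, -1), (6, 23, -1), (7, 23, 1), (8, 23, 1), (9, 23, -1), (14, 22, -1)]

set_option maxHeartbeats 0 in
set_option maxRecDepth 100000 in
theorem ccD4_0 : certCheckL chevD4 1 certD4 (List.range' 0 24) := by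
  decide +kernel

theorem ccD4 (s : ℕ) (h1 : 0 ≤ s) (h2 : s < 24) : certCheck chevD4 1 certD4 s := by
  exact ccD4_0 s (List.mem_range'_1.mpr ⟨by omega, by omega⟩)

/-- commutator certificates, type F4 -/
def certF4 : List (ℕ × ℕ × ℤ) :=
  [(1, 23, -1), (0, 24, -1), (0, 26, -1), (7, 14, -1), (0, 31, 1), (0, 32, -1), (1, 32, -1), (3, 33, -1), (3, 34, -1), (3, 35, 1), (3, 36, -1), (3, 37, 1), (3, 38, -1), (3, 39, 1), (3, 40, 1), (0, 42, 1), (0, 43, -1), (1, 43, -1), (7, 37, 1), (7, 38, -1), (7, 39, 1), (0, 45, 1), (1, 45, 1), (0, 46, 1), (1, 47, 1), (2, 46, 1), (2, 47, 1), (8, 40, 1), (9, 40, -1), (10, 40, 1), (4, 46, -1), (4, 47, -1), (5, 47, 1), (7, 44, 1), (8, 44, 1), (9, 44, -1), (10, 44, 1), (11, 44, -1), (12, 44, 1), (13, 44, -1), (14, 44, -1), (15, 46, -1), (15, 47, -1), (16, 47, 1), (33, 40, -1), (21, 47, -1), (23, 47, -1), (24, 46, -1)]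

set_option maxHeartbeats 0 in
set_option maxRecDepth 100000 in
theorem ccF4_0 : certCheckL chevF4 1 certF4 (List.range' 0 24) := by
  decide +kernel

set_option maxHeartbeats 0 in
set_option maxRecDepth 100000 in
theorem ccF4_1 : certCheckL chevF4 1 certF4 (List.range' 24 24) := by
  decide +kernel

theorem ccF4 (s : ℕ) (h1 : 0 ≤ s) (h2 : s < 48) : certCheck chevF4 1 certF4 s := by
  by_cases h24 : s < 24
  · exact ccF4_0 s (List.mem_range'_1.mpr ⟨by omega, by omega⟩)
  exact ccF4_1 s (List.mem_range'_1.mpr ⟨by omega, by omega⟩)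


end Cfsg.Agent.Lib.Helper6.ChevPerf
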